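import Mathlib.GroupTheory.Sylow
import Mathlib.RingTheory.LocalRing.ResidueField.Basic
import Mathlib.RingTheory.RootsOfUnity.PrimitiveRoots
import Mathlib.RingTheory.IntegralDomain
import Mathlib.Algebra.CharP.Lemmas
import Mathlib.Algebra.GroupWithZero.Action.Basic
import Mathlib.Algebra.Ring.Action.Basic

/-!
# The tame quotient of an inertia group which fixes every principal ideal
-/

namespace GrothLib.InertiaGrp

universe u v

open IsLocalRing

theorem structure_thm
    (B : Type u) [CommRing B] [IsLocalRing B]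
    (Γ : Type v) [Group Γ] [Finite Γ] [MulSemiringAction Γ B] [FaithfulSMul Γ B]
    (hin : ∀ (γ : Γ) (b : B), γ • b - b ∈ IsLocalRing.maximalIdeal B)
    (hst : ∀ (γ : Γ) (b : B), ∃ u : B, γ • b = b * u)
    (S : Set Γ)
    (hS : ∀ γ : Γ, γ ∈ S ↔ ∀ b : B, ∃ x ∈ IsLocalRing.maximalIdeal B, γ • b = b + b * x) :
    (ringChar (IsLocalRing.ResidueField B) = 0 → S = {1}) ∧
      (∀ (p : ℕ) [Fact p.Prime], ringChar (IsLocalRing.ResidueField B) = p →
        ∃ Q : Sylow p Γ, (Q : Set Γ) = S) ∧
      (∀ γ δ : Γ, γ * δ * γ⁻¹ * δ⁻¹ ∈ S) ∧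
      (∀ (γ : Γ) (n : ℕ), 0 < n → γ ^ n ∈ S → (∀ i : ℕ, 0 < i → i < n → γ ^ i ∉ S) →
        ∃ ζ : IsLocalRing.ResidueField B, IsPrimitiveRoot ζ n) := by
  classical
  choose u hu using hst
  have hfix : ∀ (γ : Γ) (b : B), residue B (γ • b) = residue B b := fun γ b =>
    Ideal.Quotient.eq.2 (hin γ b)
  have huniq : ∀ {b : B}, b ≠ 0 → ∀ {x y : B}, b * x = b * y → residue B x = residue B y := by
    intro b hb x y h
    by_contra hne
    have hunit : IsUnit (x - y) := by
      rw [← residue_ne_zero_iff_isUnit, map_sub, sub_ne_zero]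
      exact hne
    exact hb (hunit.mul_left_eq_zero.1 (by rw [mul_sub, h, sub_self]))
  let χ₀ : Γ →* ({b : B // b ≠ 0} → ResidueField B) :=
    { toFun := fun γ b => residue B (u γ b.1)
      map_one' := funext fun b => (huniq b.2 (by rw [← hu, one_smul, mul_one])).trans (map_one _)
      map_mul' := fun γ δ => funext fun b => by
        rw [Pi.mul_apply, ← hfix γ (u δ b.1), ← map_mul]
        refine huniq b.2 ?_
        rw [← hu, ← mul_assoc, ← hu, ← smul_mul', ← hu, mul_smul] }
  let χ := χ₀.toHomUnits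
  have hker : ∀ γ, γ ∈ χ.ker ↔ γ ∈ S := by
    intro γ
    rw [MonoidHom.mem_ker, hS, Units.ext_iff, funext_iff]
    constructor
    · intro h b
      by_cases hb : b = 0
      · exact ⟨0, zero_mem _, by simp [hb]⟩
      refine ⟨u γ b - 1, ?_, by rw [hu]; ring⟩
      rw [← residue_eq_zero_iff, map_sub, map_one, sub_eq_zero]
      exact h ⟨b, hb⟩
    · intro h b
      obtain ⟨x, hx, hbx⟩ := h b.1
      change residue B (u γ b.1) = 1
      rw [huniq b.2 (show b.1 * u γ b.1 = b.1 * (1 + x) by rw [← hu, hbx, mul_add, mul_one]), map_add, map_one,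
        (residue_eq_zero_iff x).2 hx, add_zero]
  -- elements of prime order in `S`
  have hprime : ∀ (γ : Γ) (q : ℕ), γ ∈ S → γ ^ q = 1 → (q : ResidueField B) ≠ 0 → γ = 1 := by
    intro γ q hγ hq hq0
    refine eq_of_smul_eq_smul (α := B) fun b => ?_
    rw [one_smul, ← sub_eq_zero]
    obtain ⟨x, hx, hbx⟩ := (hS γ).1 hγ b
    have hiter : ∀ i : ℕ, ∃ w : B, residue B w = (i : ResidueField B) ∧ γ ^ i • b = b + b * x * w := by
      intro i
      induction i with
      | zero => exact ⟨0, by simp, by simp⟩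
      | succ i ih =>
        obtain ⟨w, hw, hwi⟩ := ih
        obtain ⟨y, hy, hby⟩ := (hS γ).1 hγ (b * x)
        refine ⟨1 + (1 + y) * (γ • w), ?_, ?_⟩
        · rw [map_add, map_mul, map_add, hfix, hw, map_one, (residue_eq_zero_iff y).2 hy]
          push_cast
          ring
        · rw [pow_succ', mul_smul, hwi, smul_add, smul_mul', hby, hbx]
          ring
    obtain ⟨w, hw, hwq⟩ := hiter q
    rw [hq, one_smul] at hwq
    have hwu : IsUnit w := by rwa [← residue_ne_zero_iff_isUnit, hw]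
    have : b * x = 0 := hwu.mul_left_eq_zero.1 (left_eq_add.1 hwq)
    rw [hbx, add_sub_cancel_left, this]
  have hSset : S = (χ.ker : Set Γ) := Set.ext fun γ => (hker γ).symm
  refine ⟨fun h0 => ?_, fun p _ hp => ?_, fun γ δ => ?_, fun γ n hn hγn hmin => ?_⟩
  · haveI : CharZero (ResidueField B) := by
      haveI : CharP (ResidueField B) 0 := h0 ▸ ringChar.charP _
      exact CharP.charP_to_charZero _
    refine Set.eq_singleton_iff_unique_mem.2 ⟨(hker 1).1 (one_mem _), fun γ hγ => ?_⟩
    exact hprime γ (orderOf γ) hγ (pow_orderOf_eq_one γ)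
      (Nat.cast_ne_zero.2 (orderOf_pos γ).ne')
  · haveI : CharP (ResidueField B) p := hp ▸ ringChar.charP _
    have hP : IsPGroup p χ.ker := by
      intro g
      obtain ⟨e, m, hm, heq⟩ := Nat.exists_eq_pow_mul_and_not_dvd (orderOf_pos g).ne' p (Fact.out : p.Prime).one_lt.ne'
      refine ⟨e, Subtype.ext ?_⟩
      rw [Subgroup.coe_pow, Subgroup.coe_one]
      refine hprime _ m ((hker _).1 (pow_mem g.2 _)) ?_ (by rwa [Ne, CharP.cast_eq_zero_iff (ResidueField B) p])
      rw [← pow_mul, ← heq, ← Subgroup.coe_pow, pow_orderOf_eq_one, Subgroup.coe_one]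
    have hidx : ¬ p ∣ χ.ker.index := by
      rw [Subgroup.index_ker]
      intro hdvd
      haveI : Finite χ.range := Finite.of_surjective χ.rangeRestrict χ.rangeRestrict_surjective
      obtain ⟨z, hz⟩ := exists_prime_orderOf_dvd_card' p hdvd
      have hzp : (z : ({b : B // b ≠ 0} → ResidueField B)ˣ) ^ p = 1 := by
        rw [← Subgroup.coe_pow, ← hz, pow_orderOf_eq_one, Subgroup.coe_one]
      have hone : z = 1 := Subtype.ext (Units.ext (funext fun b => by
        have h := congrFun (congrArg Units.val hzp) b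
        rw [Units.val_pow_eq_pow_val, Pi.pow_apply] at h
        have h1 : ((z : ({b : B // b ≠ 0} → ResidueField B)ˣ).val b - 1) ^ p = 0 := by
          rw [sub_pow_char, h, Units.val_one, Pi.one_apply, one_pow, sub_self]
        exact sub_eq_zero.1 (pow_eq_zero_iff (Fact.out : p.Prime).ne_zero |>.1 h1)))
      rw [hone, orderOf_one] at hz
      exact (Fact.out : p.Prime).one_lt.ne hz
    exact ⟨hP.toSylow hidx, by rw [hSset]; exact congrArg (fun H : Subgroup Γ => (H : Set Γ)) (hP.toSylow_coe hidx)⟩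
  · refine (hker _).1 ?_
    simp [MonoidHom.mem_ker, mul_comm, mul_left_comm]
  · haveI : NeZero n := ⟨hn.ne'⟩
    obtain ⟨ζ, hζ⟩ := IsCyclic.exists_generator (α := rootsOfUnity n (ResidueField B))
    have hζn : (ζ : (ResidueField B)ˣ) ^ n = 1 := (mem_rootsOfUnity _ _).1 ζ.2
    refine ⟨((ζ : (ResidueField B)ˣ) : ResidueField B), IsPrimitiveRoot.coe_units_iff.2
      (IsPrimitiveRoot.mk_of_lt _ hn hζn fun d hd0 hdn hd => hmin d hd0 hdn ((hker _).1 ?_))⟩
    rw [MonoidHom.mem_ker, map_pow]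
    refine Units.ext (funext fun b => ?_)
    let z : (ResidueField B)ˣ := Units.map (Pi.evalMonoidHom (fun _ : {b : B // b ≠ 0} => ResidueField B) b) (χ γ)
    have hz : z ∈ rootsOfUnity n (ResidueField B) := by
      rw [mem_rootsOfUnity, ← map_pow, ← map_pow, MonoidHom.mem_ker.1 ((hker _).2 hγn), map_one]
    obtain ⟨i, hi⟩ := hζ ⟨z, hz⟩
    have : z = (ζ : (ResidueField B)ˣ) ^ i := (congrArg Subtype.val hi).symm
    have hzd : z ^ d = 1 := by
      rw [this, ← zpow_natCast, ← zpow_mul, mul_comm, zpow_mul, zpow_natCast, hd, one_zpow]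
    have := congrArg Units.val hzd
    rw [Units.val_pow_eq_pow_val, Units.val_one] at this
    rw [Units.val_pow_eq_pow_val, Pi.pow_apply, Units.val_one, Pi.one_apply]
    exact this

end GrothLib.InertiaGrp
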